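import Cfsg.Agent.Lib.Helper22.BG.Fitting
import Cfsg.Agent.S1393
import Cfsg.Agent.S1396
import Cfsg.Agent.S1457
import Cfsg.Agent.Lib.Helper54.PConstrained

/-!
# Bender–Glauberman, Theorem 8.1 (b)
-/

set_option autoImplicit false
set_option linter.unusedSectionVars false
set_option linter.style.haveILetI false

namespace Cfsg.Agent.Lib.Helper22.BG

open Subgroup Cfsg
open Cfsg.Agent.Lib.Helper23 Cfsg.Agent.Lib.Helper34 Cfsg.Agent.S1481 Cfsg.Agent.S1482
open scoped Pointwise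

variable {G : Type*} [Group G] [Finite G]

theorem inf_eq_bot_of_coprime_p {p : ℕ} [hp : Fact p.Prime] {K F : Subgroup G}
    (hK : (Nat.card K).Coprime p) (hF : IsPGroup p F) : K ⊓ F = ⊥ := by
  obtain ⟨n, hn⟩ := IsPGroup.iff_card.mp hF
  have hc : (Nat.card K).Coprime (Nat.card F) := by
    rw [hn]
    exact Nat.Coprime.pow_right _ hK
  exact (Subgroup.disjoint_of_coprime_natCard hc).eq_bot

/-- If `F(M)` is a `p`-group, then `O_{p'}(M) = 1`. -/
theorem coreOf_eq_bot_of_fitting {M : Subgroup G} (hMs : Group.IsSolvable M) {p : ℕ}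
    [hp : Fact p.Prime] (hFp : IsPGroup p (fittingOf M)) : coreOf p M = ⊥ := by
  have h0 : coreOf p M ⊓ fittingOf M = ⊥ := inf_eq_bot_of_coprime_p (card_coreOf_coprime p M) hFp
  have h1 : coreOf p M ≤ centralizer (fittingOf M : Set G) :=
    le_centralizer_of_inf_eq_bot ((coreOf_le p M).trans (le_normalizer_fittingOf M))
      ((fittingOf_le M).trans (le_normalizer_coreOf p M)) h0
  have h2 : coreOf p M ≤ fittingOf M :=
    (le_inf (coreOf_le p M) h1).trans (centralizer_fittingOf_le M hMs)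
  rw [eq_bot_iff, ← h0]
  exact le_inf le_rfl h2

/-- A normal `p`-subgroup lies in every Sylow `p`-subgroup. -/
theorem Syl.normal_le {p : ℕ} [hp : Fact p.Prime] {S H F : Subgroup G} (hS : Syl p S H)
    (hF : IsPGroup p F) (hFH : F ≤ H) (hn : H ≤ normalizer (F : Set G)) : F ≤ S := by
  obtain ⟨T, hT, hFT⟩ := Syl.exists_ge hF hFH
  obtain ⟨m, hm, e⟩ := Syl.exists_conj hS hT
  rw [← e]
  intro x hx
  rw [Subgroup.mem_pointwise_smul_iff_inv_smul_mem]
  apply hFT
  have : m⁻¹ ∈ normalizer (F : Set G) := inv_mem (hn hm)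
  have h2 := Cfsg.Agent.Lib.Helper47.conj_mem_of_mem_normalizer this hx
  simpa [MulAut.smul_def] using h2

theorem syl_ne_bot {p : ℕ} [hp : Fact p.Prime] {S H F : Subgroup G} (hS : Syl p S H)
    (hF : IsPGroup p F) (hFH : F ≤ H) (hne : F ≠ ⊥) : S ≠ ⊥ := by
  intro h
  have h1 := card_le_of_isPGroup hF hFH
  rw [← hS.card_eq, h, Subgroup.card_bot] at h1
  exact hne (Subgroup.card_eq_one.mp (le_antisymm h1 Nat.card_pos))

/-- If `O_{p'}(M) = 1` and `p ∣ |M|` then `N(ZJ(P)) = M`, for `P` a Sylow `p`-subgroup of `M`. -/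
theorem normalizer_zj_eq (hG : IsMinSimpleOddOrder G) {M : Subgroup G} (hM : IsCoatom M) {p : ℕ}
    [hp : Fact p.Prime] (hcore : coreOf p M = ⊥) {P : Subgroup G} (hP : Syl p P M) (hne : P ≠ ⊥) :
    normalizer (centerThompsonOf p P : Set G) = M :=
  normalizer_eq hG hM (zj_ne_bot hP.pg hne) (isPGroup_ne_top hG (hP.pg.to_le (zj_le P)))
    (le_normalizer_zj hG hM.1 hP hcore)

theorem syl_top_of_core (hG : IsMinSimpleOddOrder G) {M : Subgroup G} (hM : IsCoatom M) {p : ℕ}
    [hp : Fact p.Prime] (hcore : coreOf p M = ⊥) {P : Subgroup G} (hP : Syl p P M) (hne : P ≠ ⊥) :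
    Syl p P ⊤ := by
  apply Syl.of_normalizer hP.pg le_top
  refine hP.mono (le_inf le_normalizer le_top) (inf_le_left.trans ?_)
  rw [← normalizer_zj_eq hG hM hcore hP hne]
  exact normalizer_le_normalizer_zj hP.pg

/-- The `Sylow` structure of `↥H` attached to a Sylow subgroup of `H`. -/
noncomputable def Syl.toSylowSub {p : ℕ} [hp : Fact p.Prime] {S H : Subgroup G} (h : Syl p S H) :
    Sylow p H :=
  (h.pg.comap_subtype (K := H)).toSylow h.ndvd

theorem Syl.coe_toSylowSub {p : ℕ} [hp : Fact p.Prime] {S H : Subgroup G} (h : Syl p S H) :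
    (h.toSylowSub : Subgroup H) = S.subgroupOf H := rfl

theorem scn_comm {P A : Subgroup G} (hA : IsSCN P A) : A ≤ centralizer (A : Set G) := by
  have h := hA.2.2
  intro x hx
  rw [← h] at hx
  exact hx.2

theorem isMulCommutative_of_le_centralizer {A : Subgroup G} (h : A ≤ centralizer (A : Set G)) :
    IsMulCommutative A :=
  ⟨⟨fun x y => Subtype.ext ((mem_centralizer_iff.mp (h y.2) x x.2))⟩⟩

/-- An abelian normal subgroup of a Sylow `p`-subgroup of `M` lies in `O_p(M)` if `O_{p'}(M) = 1`. -/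
theorem le_pCoreOf_of_abelian (hG : IsMinSimpleOddOrder G) {M : Subgroup G} (hM : M ≠ ⊤) {p : ℕ}
    [hp : Fact p.Prime] (hcore : coreOf p M = ⊥) {P A : Subgroup G} (hP : Syl p P M)
    (hAP : A ≤ P) (hAc : A ≤ centralizer (A : Set G)) (hPA : P ≤ normalizer (A : Set G)) :
    A ≤ pCoreOf p M := by
  haveI : Group.IsSolvable M := solv hG hM
  have hcore' : pPrimeCore p M = ⊥ := by
    unfold coreOf at hcore
    exact (Subgroup.map_eq_bot_iff_of_injective _ (subtype_injective M)).mp hcore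
  have hAc' : IsMulCommutative (A.subgroupOf M) := by
    refine ⟨⟨fun x y => Subtype.ext (Subtype.ext ?_)⟩⟩
    exact mem_centralizer_iff.mp (hAc (mem_subgroupOf.mp y.2)) _ (mem_subgroupOf.mp x.2)
  have h1 := Cfsg.Agent.S1457.result (G := M) (odd_card hG M) p hP.toSylowSub (A.subgroupOf M)
    (by rw [Syl.coe_toSylowSub]; exact Subgroup.comap_mono hAP) hAc'
    (by rw [Syl.coe_toSylowSub]; exact le_normalizer_subgroupOf hPA)
  have h2 := Cfsg.Agent.Lib.Helper54.comap_pCore_eq_pPrimePCore (p := p) (MonoidHom.id M)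
    Function.surjective_id (by rw [hcore']; exact MonoidHom.ker_id)
  rw [← h2, Subgroup.comap_id] at h1
  have h3 := map_mono (f := M.subtype) h1
  rwa [subgroupOf_map_subtype, inf_of_le_left (hAP.trans hP.le)] at h3

theorem pCoreOf_le_fittingOf (p : ℕ) [hp : Fact p.Prime] (M : Subgroup G) :
    pCoreOf p M ≤ fittingOf M := by
  rw [fittingOf_eq_iSup]
  exact le_iSup (fun q : Nat.Primes => pCoreOf (q : ℕ) M) ⟨p, hp.out⟩

theorem not_pRankLE_mono {p k l : ℕ} (hp : 0 < p) (hkl : k ≤ l) {X : Type*} [Group X]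
    (h : ¬ PRankLE p l X) : ¬ PRankLE p k X :=
  fun h1 => h (fun A hA hAe => (h1 A hA hAe).trans (Nat.pow_le_pow_right hp hkl))

theorem transHyp_of_scn (hG : IsMinSimpleOddOrder G) {p : ℕ} [hp : Fact p.Prime]
    {P A : Subgroup G} (hP : Syl p P ⊤) (hA : IsSCN P A) (hA1 : ¬ PRankLE p 1 A) :
    TransitivityHypothesis A := by
  have hpG : p ∣ Nat.card G := by
    by_contra hnd
    apply hA1
    intro B _ _
    have hA1 : Nat.card A = 1 := by
      obtain ⟨n, hn⟩ := IsPGroup.iff_card.mp (hP.pg.to_le hA.1)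
      rcases Nat.eq_zero_or_pos n with rfl | hn0
      · simpa using hn
      · exfalso
        apply hnd
        have : p ∣ Nat.card A := by rw [hn]; exact dvd_pow_self p hn0.ne'
        exact this.trans (Subgroup.card_subgroup_dvd_card A)
    have : Nat.card B ≤ Nat.card A := Subgroup.card_le_card_group B
    rw [hA1] at this
    exact this.trans (Nat.one_le_pow _ _ hp.out.pos)
  exact Cfsg.Agent.S1396.result hG p hpG A (hP.pg.to_le hA.1)
    (isMulCommutative_of_le_centralizer (scn_comm hA)) (Or.inr ⟨hP.toSylow, hA, hA1⟩)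

/-- transitivity (BG 7.3) for `A ∈ SCN_3(P)`, in `MaxInvQ` form -/
theorem scn3_trans (hG : IsMinSimpleOddOrder G) {p : ℕ} [hp : Fact p.Prime]
    {P A : Subgroup G} (hP : Syl p P ⊤) (hA : IsSCN P A) (hA3 : ¬ PRankLE p 2 A)
    {q : ℕ} [hq : Fact q.Prime] (hqp : q ≠ p) {Q₁ Q₂ : Subgroup G}
    (h₁ : MaxInvQ A q Q₁) (h₂ : MaxInvQ A q Q₂) :
    ∃ k ∈ piCoreOf (primesNotDvd (Nat.card A)) (centralizer (A : Set G)),
      Q₂ = Q₁.map (MulAut.conj k).toMonoidHom := by
  have hT := transHyp_of_scn hG hP hA (not_pRankLE_mono hp.out.pos (by norm_num) hA3)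
  have hqA : ¬ q ∣ Nat.card A := by
    intro hd
    obtain ⟨n, hn⟩ := IsPGroup.iff_card.mp (hP.pg.to_le hA.1)
    rw [hn] at hd
    exact hqp ((Nat.prime_dvd_prime_iff_eq hq.out hp.out).mp (hq.out.dvd_of_dvd_pow hd))
  have hZ : ¬ RankLE 2 ↥(A ⊓ centralizer (A : Set G)) := by
    rw [inf_of_le_left (scn_comm hA)]
    exact fun h => hA3 (h p hp.out)
  exact Cfsg.Agent.S1393.result hG A hT hZ q hq.out hqA Q₁ (mem_maxInvSubgroups_top_iff.mpr h₁)
    Q₂ (mem_maxInvSubgroups_top_iff.mpr h₂)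

theorem center_ne_bot {p : ℕ} [hp : Fact p.Prime] {F : Subgroup G} (hF : IsPGroup p F)
    (hne : F ≠ ⊥) : F ⊓ centralizer (F : Set G) ≠ ⊥ := by
  haveI : Nontrivial F := (Subgroup.nontrivial_iff_ne_bot F).mpr hne
  haveI := hF.center_nontrivial
  obtain ⟨z, hz⟩ := exists_ne (1 : center F)
  intro h
  apply hz
  have h1 : ((z : F) : G) ∈ F ⊓ centralizer (F : Set G) := by
    refine mem_inf.mpr ⟨(z : F).2, ?_⟩
    rw [mem_centralizer_iff]
    intro y hy
    have := (mem_center_iff.mp z.2) ⟨y, hy⟩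
    exact congrArg Subtype.val this
  rw [h, mem_bot] at h1
  exact Subtype.ext (Subtype.ext h1)

theorem le_normalizer_center {M F : Subgroup G} (h : M ≤ normalizer (F : Set G)) :
    M ≤ normalizer ((F ⊓ centralizer (F : Set G) : Subgroup G) : Set G) := by
  rw [le_normalizer_iff]
  intro m hm z hz
  have hF := le_normalizer_iff.mp h
  refine mem_inf.mpr ⟨hF m hm z hz.1, ?_⟩
  rw [mem_centralizer_iff]
  intro y hy
  have h1 : m⁻¹ * y * m ∈ F := by
    have := hF m⁻¹ (inv_mem hm) y hy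
    simpa using this
  have h2 := (mem_centralizer_iff.mp hz.2) _ h1
  calc y * (m * z * m⁻¹) = m * ((m⁻¹ * y * m) * z) * m⁻¹ := by group
    _ = m * (z * (m⁻¹ * y * m)) * m⁻¹ := by rw [h2]
    _ = m * z * m⁻¹ * y := by group

/-- **BG Theorem 8.1 (b).** -/
theorem fitting_uniq_b (hG : IsMinSimpleOddOrder G) {M : Subgroup G} (hM : IsCoatom M) {p : ℕ}
    [hp : Fact p.Prime] (hFne : fittingOf M ≠ ⊥) (hFp : IsPGroup p (fittingOf M))
    {P A : Subgroup G} (hP : Syl p P M) (hA : IsSCN P A) (hA3 : ¬ PRankLE p 2 A) :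
    A ≤ fittingOf M ∧ ∀ L : Subgroup G, IsCoatom L → A ≤ L → L = M := by
  set F := fittingOf M with hF
  have hMs : Group.IsSolvable M := solv hG hM.1
  have hcore : coreOf p M = ⊥ := coreOf_eq_bot_of_fitting hMs hFp
  have hFM : F ≤ M := fittingOf_le M
  have hMF : M ≤ normalizer (F : Set G) := le_normalizer_fittingOf M
  have hne : ∀ P₁, Syl p P₁ M → P₁ ≠ ⊥ := fun P₁ h => syl_ne_bot h hFp hFM hFne
  have hPtop : Syl p P ⊤ := syl_top_of_core hG hM hcore hP (hne P hP)
  have hAc := scn_comm hA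
  have hAF : A ≤ F :=
    (le_pCoreOf_of_abelian hG hM.1 hcore hP hA.1 hAc hA.2.1).trans (pCoreOf_le_fittingOf p M)
  refine ⟨hAF, ?_⟩
  have hAp : IsPGroup p A := hP.pg.to_le hA.1
  have hAM : A ≤ M := hAF.trans hFM
  have hT := transHyp_of_scn hG hPtop hA (not_pRankLE_mono hp.out.pos (by norm_num) hA3)
  have hAne : A ≠ ⊥ := hT.1
  -- `C_G(A) ≤ M`
  have hZA : F ⊓ centralizer (F : Set G) ≤ A := by
    rw [← hA.2.2]
    exact le_inf (inf_le_left.trans (hP.normal_le hFp hFM hMF))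
      (inf_le_right.trans (centralizer_le hAF))
  have hNZ : normalizer ((F ⊓ centralizer (F : Set G) : Subgroup G) : Set G) = M :=
    normalizer_eq hG hM (center_ne_bot hFp hFne) (isPGroup_ne_top hG (hFp.to_le inf_le_left))
      (le_normalizer_center hMF)
  have hCM : centralizer (A : Set G) ≤ M := by
    rw [← hNZ]
    exact (centralizer_le hZA).trans (centralizer_le_normalizer _)
  -- `D = 1`
  have hD : piCoreOf (primesNotDvd (Nat.card A)) (centralizer (A : Set G)) = ⊥ := by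
    set D := piCoreOf (primesNotDvd (Nat.card A)) (centralizer (A : Set G)) with hDdef
    have h1 : D ≤ piCoreOf (primesNotDvd (Nat.card A)) M :=
      TransHyp.le_piCoreOf hT hM.1 hAM ((piCoreOf_le _ _).trans hCM) (piCoreOf_primes _ _)
        (hAc.trans (le_normalizer_piCoreOf _ _))
    have h2 : piCoreOf (primesNotDvd (Nat.card A)) M ≤ coreOf p M :=
      le_coreOf p (piCoreOf_le _ _) (le_normalizer_piCoreOf _ _)
        ((coprime_iff_primes hAp hAne _).mp (piCoreOf_primes _ _))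
    rw [eq_bot_iff, ← hcore]
    exact h1.trans h2
  have hkill : ∀ q : ℕ, q.Prime → q ≠ p → ∀ Q, InvQ A q Q → Q = ⊥ := by
    intro q hq hqp
    haveI : Fact q.Prime := ⟨hq⟩
    have hqF : ¬ q ∣ Nat.card F := by
      intro hd
      obtain ⟨n, hn⟩ := IsPGroup.iff_card.mp hFp
      rw [hn] at hd
      exact hqp ((Nat.prime_dvd_prime_iff_eq hq hp.out).mp (hq.dvd_of_dvd_pow hd))
    apply invQ_eq_bot hG hM hAF hqF
    intro Q₁ Q₂ h₁ h₂
    obtain ⟨k, hk, e⟩ := scn3_trans hG hPtop hA hA3 hqp h₁ h₂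
    rw [hD, mem_bot] at hk
    subst hk
    rw [e]
    ext x
    simp
  have hinv : ∀ Y : Subgroup G, A ≤ normalizer (Y : Set G) → (Nat.card Y).Coprime p → Y = ⊥ := by
    intro Y hAY hY
    have hAs : Group.IsSolvable A := solv hG hT.2.1
    apply inv_eq_bot hAs hAY
    · obtain ⟨n, hn⟩ := IsPGroup.iff_card.mp hAp
      rw [hn]
      exact (Nat.Coprime.pow_right n hY).symm
    · intro q hq hqd
      apply hkill q hq
      rintro rfl
      exact (Nat.Prime.coprime_iff_not_dvd hq).mp hY.symm hqd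
  have hcoreH : ∀ H, IsCoatom H → A ≤ H → coreOf p H = ⊥ := fun H _ hAH =>
    hinv _ (hAH.trans (le_normalizer_coreOf p H)) (card_coreOf_coprime p H)
  apply maxInt hG hM hAM hAp hAne
  · intro H hH hAH
    rw [hcoreH H hH hAH]
    exact bot_le
  · intro P₁ hP₁ hAP₁ H hH hP₁H
    have h1 : Syl p P₁ ⊤ := syl_top_of_core hG hM hcore hP₁ (hne P₁ hP₁)
    have h2 : Syl p P₁ H := h1.mono hP₁H le_top
    have h3 : H ≤ normalizer (centerThompsonOf p P₁ : Set G) :=
      le_normalizer_zj hG hH.1 h2 (hcoreH H hH (hAP₁.trans hP₁H))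
    rw [normalizer_zj_eq hG hM hcore hP₁ (hne P₁ hP₁)] at h3
    exact ((hH.le_iff_eq hM.1).mp h3).symm

end Cfsg.Agent.Lib.Helper22.BG
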