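import Cfsg.Agent.S1401

/-!
# Bender–Glauberman, Theorem 9.6 (the Uniqueness Theorem) from Lemma 9.5
-/

set_option autoImplicit false
set_option linter.unusedSectionVars false
set_option linter.style.haveILetI false

namespace Cfsg.Agent.Lib.Helper22.BG

open Subgroup Cfsg
open Cfsg.Agent.Lib.Helper23U Cfsg.Agent.S1401

variable {G : Type*} [Group G] [Finite G]

/-- An elementary abelian `p`-subgroup of order `> p ^ 2` is a uniqueness subgroup (given BG 9.5). -/
theorem uniq_of_elemAb (hG : IsMinSimpleOddOrder G)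
    (h95 : ∀ (p : ℕ) [Fact p.Prime] (P : Sylow p G) (A : Subgroup G), IsSCN (P : Subgroup G) A →
      ¬ PRankLE p 2 ↥A → InUniqueMaximal A)
    {p : ℕ} [hp : Fact p.Prime] {E : Subgroup G} (hE : IsElementaryAbelian p E)
    (hc : p ^ 2 < Nat.card E) : InUniqueMaximal E := by
  have hEp : IsPGroup p E := isPGroup_of_elemAb hE.2
  have hp2 : p ≠ 2 := by
    apply ne_two_of_isPGroup hG hEp
    rintro rfl
    rw [Subgroup.card_bot] at hc
    have := Nat.one_le_pow 2 p hp.out.pos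
    omega
  obtain ⟨P⟩ : Nonempty (Sylow p G) := inferInstance
  obtain ⟨A, hA, hA3⟩ := exists_scn3 hp2 P (not_pRankLE_top hE hc)
  have hEcomm : E ≤ centralizer (E : Set G) := by
    intro x hx
    rw [mem_centralizer_iff]
    intro y hy
    exact congrArg Subtype.val (hE.1.is_comm.comm ⟨y, hy⟩ ⟨x, hx⟩)
  refine Cfsg.Agent.S1400.result hG p A E (P.isPGroup'.to_le hA.1)
    (isMulCommutative_of_le_centralizer (scn_comm hA)) hA3 (h95 p P A hA hA3) hEp ?_
    (not_pRankLE_of_le hEcomm hE hc)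
  refine not_isCyclic_of_elemAb hE.2 (lt_trans ?_ hc)
  nlinarith [hp.out.one_lt]

/-- **BG Theorem 9.6** (given BG 9.5). -/
theorem uniqueness_theorem (hG : IsMinSimpleOddOrder G)
    (h95 : ∀ (p : ℕ) [Fact p.Prime] (P : Sylow p G) (A : Subgroup G), IsSCN (P : Subgroup G) A →
      ¬ PRankLE p 2 ↥A → InUniqueMaximal A)
    (K : Subgroup G) (hK : K ≠ ⊤) (hK2 : ¬ RankLE 1 K)
    (hK3 : ¬ RankLE 2 K ∨ ¬ RankLE 2 (centralizer (K : Set G))) : InUniqueMaximal K := by
  rcases hK3 with h | h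
  · unfold RankLE at h
    push Not at h
    obtain ⟨p, hp, h⟩ := h
    haveI : Fact p.Prime := ⟨hp⟩
    obtain ⟨E, hEK, hE, hc⟩ := exists_elemAb_of_not_pRankLE h
    exact uniq_mono (uniq_of_elemAb hG h95 hE hc) hEK hK
  · unfold RankLE at h
    push Not at h
    obtain ⟨p, hp, h⟩ := h
    haveI : Fact p.Prime := ⟨hp⟩
    obtain ⟨E, hEK, hE, hc⟩ := exists_elemAb_of_not_pRankLE h
    exact Cfsg.Agent.S1399.result hG E K (uniq_of_elemAb hG h95 hE hc)
      (le_centralizer_iff.mp hEK) hK2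

end Cfsg.Agent.Lib.Helper22.BG
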