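import Cfsg.Agent.Lib.Helper22.BG.Basic

/-!
# Bender–Glauberman, chapter II: general uniqueness tools
-/

set_option autoImplicit false
set_option linter.unusedSectionVars false
set_option linter.style.haveILetI false

namespace Cfsg.Agent.Lib.Helper22.BG

open Subgroup Cfsg
open Cfsg.Agent.Lib.Helper23 Cfsg.Agent.Lib.Helper34 Cfsg.Agent.S1481 Cfsg.Agent.S1482
open scoped Pointwise

variable {G : Type*} [Group G] [Finite G]

theorem le_normalizer_map_conj {K Q : Subgroup G} {g : G}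
    (h : ∀ k ∈ K, g⁻¹ * k * g ∈ normalizer (Q : Set G)) :
    K ≤ normalizer ((Q.map (MulAut.conj g).toMonoidHom : Subgroup G) : Set G) := by
  intro k hk
  rw [normalizer_map_conj, mem_map_conj]
  exact h k hk

theorem mem_normalizer_of_map_conj_le {Q : Subgroup G} {g : G}
    (h : Q.map (MulAut.conj g).toMonoidHom ≤ Q) : g ∈ normalizer (Q : Set G) := by
  apply mem_normalizer_of_map_conj_eq
  exact Subgroup.eq_of_le_of_card_ge h (by rw [card_map_conj])

/-- If `G` has a unique maximal `K₀`-invariant `q`-subgroup, `K₀ ≤ F(M)`, `q ∉ π(F(M))`, then it is trivial. -/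
theorem invQ_eq_bot (hG : IsMinSimpleOddOrder G) {M K₀ : Subgroup G} (hM : IsCoatom M)
    (hK : K₀ ≤ fittingOf M) {q : ℕ} [hq : Fact q.Prime] (hqF : ¬ q ∣ Nat.card (fittingOf M))
    (huniq : ∀ Q₁ Q₂, MaxInvQ K₀ q Q₁ → MaxInvQ K₀ q Q₂ → Q₁ = Q₂) :
    ∀ Q, InvQ K₀ q Q → Q = ⊥ := by
  obtain ⟨Q, hQ, -⟩ := exists_maxInvQ_ge (A := K₀) (q := q) (U := ⊥)
    ⟨IsPGroup.of_bot, by rw [le_normalizer_iff]; intro h _ k hk; rw [mem_bot] at hk ⊢; rw [hk]; group⟩
  have hall : ∀ U, InvQ K₀ q U → U ≤ Q := by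
    intro U hU
    obtain ⟨T, hT, hUT⟩ := exists_maxInvQ_ge hU
    rw [← huniq T Q hT hQ]
    exact hUT
  have hconj : ∀ g : G, (∀ k ∈ K₀, g⁻¹ * k * g ∈ normalizer (Q : Set G)) →
      g ∈ normalizer (Q : Set G) := by
    intro g hg
    apply mem_normalizer_of_map_conj_le
    exact hall _ ⟨isPGroup_map_conj g hQ.1.1, le_normalizer_map_conj hg⟩
  set F := fittingOf M with hF
  have hFnil : Group.IsNilpotent F := fittingOf_isNilpotent M
  have hFQ : F ≤ normalizer (Q : Set G) := by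
    set X := F ⊓ normalizer (Q : Set G) with hX
    have hKX : K₀ ≤ X := le_inf hK hQ.1.2
    by_contra hcon
    have hlt : X < F := lt_of_le_of_ne inf_le_left (fun h => hcon (h ▸ inf_le_right))
    obtain ⟨x, hxF, hxN, hxX⟩ := Cfsg.Agent.Lib.Helper24.exists_mem_normalizer_not_mem hFnil hlt
    apply hxX
    refine mem_inf.mpr ⟨hxF, hconj x ?_⟩
    intro k hk
    have h1 : x⁻¹ * k * x⁻¹⁻¹ ∈ X := le_normalizer_iff.mp
      (zpowers_le.mpr (inv_mem hxN) : zpowers x⁻¹ ≤ _) x⁻¹ (mem_zpowers _) k (hKX hk)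
    rw [inv_inv] at h1
    exact h1.2
  have hMQ : M ≤ normalizer (Q : Set G) := by
    intro m hm
    apply hconj
    intro k hk
    have h1 : m⁻¹ * k * m⁻¹⁻¹ ∈ F :=
      le_normalizer_iff.mp (le_normalizer_fittingOf M) m⁻¹ (inv_mem hm) k (hK hk)
    rw [inv_inv] at h1
    exact hFQ h1
  have hQbot : Q = ⊥ := by
    by_contra hne
    have h1 := normalizer_eq hG hM hne (isPGroup_ne_top hG hQ.1.1) hMQ
    have h2 : Q ≤ M := h1 ▸ le_normalizer
    have h3 : Q ≤ F := by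
      rw [hF, fittingOf_eq_iSup]
      exact (Cfsg.Agent.Lib.Helper47.le_pCoreOf h2 hMQ hQ.1.1).trans
        (le_iSup (fun p : Nat.Primes => pCoreOf (p : ℕ) M) ⟨q, hq.out⟩)
    apply hqF
    rcases hQ.1.1.card_eq_or_dvd with h | h
    · exact absurd (Subgroup.card_eq_one.mp h) hne
    · exact h.trans (Subgroup.card_dvd_of_le h3)
  intro U hU
  rw [eq_bot_iff, ← hQbot]
  exact hall U hU

/-- If all `K₀`-invariant `q`-subgroups are trivial for the primes dividing `|Y|`, then `Y = 1`. -/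
theorem inv_eq_bot {K₀ Y : Subgroup G} (hsolv : Group.IsSolvable K₀)
    (hKY : K₀ ≤ normalizer (Y : Set G)) (hcop : (Nat.card K₀).Coprime (Nat.card Y))
    (h : ∀ q : ℕ, q.Prime → q ∣ Nat.card Y → ∀ Q, InvQ K₀ q Q → Q = ⊥) : Y = ⊥ := by
  by_contra hne
  have h1 : Nat.card Y ≠ 1 := fun h => hne (Subgroup.card_eq_one.mp h)
  obtain ⟨q, hq, hqd⟩ := Nat.exists_prime_and_dvd h1
  haveI : Fact q.Prime := ⟨hq⟩
  obtain ⟨P, hPY, hP, hPi, hKP⟩ :=
    Cfsg.Agent.Lib.Helper1.exists_invariant_sylow K₀ Y hKY hcop (Or.inl hsolv) q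
  have h2 := h q hq hqd P ⟨hP, hKP⟩
  rw [h2, Subgroup.relIndex_bot_left] at hPi
  exact hPi hqd

/-- The "maximal intersection" argument. -/
theorem maxInt (hG : IsMinSimpleOddOrder G) {p : ℕ} [hp : Fact p.Prime] {M B : Subgroup G}
    (hM : IsCoatom M) (hBM : B ≤ M) (hB : IsPGroup p B) (hBne : B ≠ ⊥)
    (h1 : ∀ H, IsCoatom H → B ≤ H → coreOf p H ≤ M)
    (h2 : ∀ P, Syl p P M → B ≤ P → ∀ H, IsCoatom H → P ≤ H → H = M) :
    ∀ H, IsCoatom H → B ≤ H → H = M := by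
  by_contra hcon
  push Not at hcon
  obtain ⟨H₀, hH₀, hBH₀, hne₀⟩ := hcon
  obtain ⟨H, ⟨hH, hBH, hne⟩, hmax⟩ := Set.exists_max_image
    {H : Subgroup G | IsCoatom H ∧ B ≤ H ∧ H ≠ M}
    (fun H => (Nat.card (H ⊓ M : Subgroup G)).factorization p) (Set.toFinite _)
    ⟨H₀, hH₀, hBH₀, hne₀⟩
  obtain ⟨R, hR, hBR⟩ := Syl.exists_ge hB (le_inf hBH hBM)
  obtain ⟨P, hP, hRP⟩ := Syl.exists_ge hR.pg (hR.le.trans inf_le_right)
  have hRne : R ≠ ⊥ := fun h => hBne (le_bot_iff.mp (h ▸ hBR))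
  have hRP' : R < P := by
    refine lt_of_le_of_ne hRP ?_
    intro h
    exact hne (h2 P hP (hBR.trans hRP) H hH (h ▸ hR.le.trans inf_le_left))
  obtain ⟨x, hxP, hxN, hxR⟩ := Cfsg.Agent.Lib.Helper22.exists_mem_normalizer_not_mem hP.pg hRP'
  set R₁ := R ⊔ zpowers x with hR₁
  have hR₁P : R₁ ≤ P := sup_le hRP (zpowers_le.mpr hxP)
  have hR₁p : IsPGroup p R₁ := hP.pg.to_le hR₁P
  have hR₁N : R₁ ≤ normalizer (R : Set G) := sup_le le_normalizer (zpowers_le.mpr hxN)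
  have hlt : Nat.card R < Nat.card R₁ := by
    apply card_lt_card_of_lt
    refine lt_of_le_of_ne le_sup_left ?_
    intro h
    apply hxR
    rw [h]
    exact mem_sup_right (mem_zpowers x)
  have key : ∀ X : Subgroup G, X ≠ ⊥ → IsPGroup p X →
      normalizer (R : Set G) ≤ normalizer (X : Set G) → normalizer (X : Set G) ≤ M := by
    intro X hX hXp hRX
    obtain ⟨D, hD, hXD⟩ := exists_max (normalizer_ne_top hG hX (isPGroup_ne_top hG hXp))
    have hBD : B ≤ D := ((hBR.trans le_normalizer).trans hRX).trans hXD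
    by_cases hDM : D = M
    · rw [← hDM]; exact hXD
    · exfalso
      have h3 := hmax D ⟨hD, hBD, hDM⟩
      have h4 : R₁ ≤ D ⊓ M := le_inf ((hR₁N.trans hRX).trans hXD) (hR₁P.trans hP.le)
      have h5 := card_le_of_isPGroup hR₁p h4
      have h6 := hR.card_eq
      have h7 : p ^ (Nat.card (D ⊓ M : Subgroup G)).factorization p ≤
          p ^ (Nat.card (H ⊓ M : Subgroup G)).factorization p :=
        Nat.pow_le_pow_right hp.out.pos h3
      omega
  have hNR : normalizer (R : Set G) ≤ M := key R hRne hR.pg le_rfl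
  have hNZ : normalizer (centerThompsonOf p R : Set G) ≤ M :=
    key _ (zj_ne_bot hR.pg hRne) (hR.pg.to_le (zj_le R)) (normalizer_le_normalizer_zj hR.pg)
  have hRH : Syl p R H := by
    apply Syl.of_normalizer hR.pg (hR.le.trans inf_le_left)
    exact hR.mono (le_inf le_normalizer (hR.le.trans inf_le_left))
      (le_inf inf_le_right (inf_le_left.trans hNR))
  have hle : H ≤ M := le_of_zj hG hH.1 hRH (h1 H hH hBH) (inf_le_right.trans hNZ)
  exact hne ((hH.le_iff.mp hle).resolve_left hM.1).symm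

end Cfsg.Agent.Lib.Helper22.BG
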