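import Cfsg.Agent.S1481
import Cfsg.Agent.S1458
import Cfsg.Agent.Lib.Helper23.Trans4
import Cfsg.Agent.Lib.Helper22.Factorization

/-!
# Bender–Glauberman, chapter II: basic tools (ambient form)
-/

set_option autoImplicit false
set_option linter.unusedSectionVars false
set_option linter.style.haveILetI false

namespace Cfsg.Agent.Lib.Helper22.BG

open Subgroup Cfsg
open scoped Pointwise

variable {G : Type*} [Group G]

/-- `S` is a Sylow `p`-subgroup of the subgroup `H`. -/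
structure Syl (p : ℕ) (S H : Subgroup G) : Prop where
  le : S ≤ H
  pg : IsPGroup p S
  ndvd : ¬ p ∣ S.relIndex H

section Syl

variable [Finite G] {p : ℕ} [hp : Fact p.Prime] {S H L U : Subgroup G}

theorem Syl.exists_ge (hU : IsPGroup p U) (hUH : U ≤ H) : ∃ S, Syl p S H ∧ U ≤ S := by
  obtain ⟨P, hP⟩ := (hU.comap_subtype (K := H)).exists_le_sylow
  obtain ⟨h1, h2, h3⟩ := Cfsg.Agent.Lib.Helper1.sylow_map_subtype_props P
  refine ⟨_, ⟨h1, h2, h3⟩, ?_⟩
  have hP' : U.subgroupOf H ≤ P := hP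
  have := Subgroup.map_mono (f := H.subtype) hP'
  rwa [Subgroup.subgroupOf_map_subtype, inf_of_le_left hUH] at this

theorem Syl.of_sylow (P : Sylow p G) : Syl p (P : Subgroup G) ⊤ :=
  ⟨le_top, P.isPGroup', by rw [Subgroup.relIndex_top_right]; exact P.not_dvd_index⟩

theorem Syl.of_sylow_sub (P : Sylow p H) : Syl p ((P : Subgroup H).map H.subtype) H := by
  obtain ⟨h1, h2, h3⟩ := Cfsg.Agent.Lib.Helper1.sylow_map_subtype_props P
  exact ⟨h1, h2, h3⟩

/-- The `Sylow` structure attached to a Sylow subgroup of `⊤`. -/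
noncomputable def Syl.toSylow (h : Syl p S (⊤ : Subgroup G)) : Sylow p G :=
  h.pg.toSylow (by have := h.ndvd; rwa [Subgroup.relIndex_top_right] at this)

theorem Syl.coe_toSylow (h : Syl p S (⊤ : Subgroup G)) : (h.toSylow : Subgroup G) = S := rfl

theorem Syl.mono (h : Syl p S H) (h1 : S ≤ L) (h2 : L ≤ H) : Syl p S L :=
  ⟨h1, h.pg, fun hd => h.ndvd (by
    rw [← Subgroup.relIndex_mul_relIndex S L H h1 h2]; exact Dvd.dvd.mul_right hd _)⟩

theorem Syl.eq_of_le (h : Syl p S H) (hU : IsPGroup p U) (h1 : S ≤ U) (h2 : U ≤ H) : U = S :=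
  Cfsg.Agent.Lib.Helper1.eq_of_le_of_sylow_rel h.ndvd h1 h2 hU

theorem Syl.card_eq (h : Syl p S H) : Nat.card S = p ^ (Nat.card H).factorization p :=
  (isSylowIn_of_not_dvd_relIndex h.pg h.le h.ndvd).card_eq

theorem card_le_of_isPGroup (hU : IsPGroup p U) (hUH : U ≤ H) :
    Nat.card U ≤ p ^ (Nat.card H).factorization p := by
  obtain ⟨S, hS, hUS⟩ := Syl.exists_ge hU hUH
  rw [← hS.card_eq]
  exact Subgroup.card_le_of_le hUS

theorem Syl.of_normalizer (hS : IsPGroup p S) (hSH : S ≤ H)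
    (h : Syl p S (normalizer (S : Set G) ⊓ H)) : Syl p S H :=
  ⟨hSH, hS, Cfsg.Agent.Lib.Helper1.sylow_of_sylow_normalizer hSH hS h.ndvd⟩

theorem Syl.exists_conj (h1 : Syl p S H) (h2 : Syl p U H) : ∃ m ∈ H, MulAut.conj m • U = S :=
  Cfsg.Agent.Lib.Helper1.exists_conj_of_sylow_rel h1.le h2.le h1.pg h2.pg h1.ndvd h2.ndvd

/-- Frattini argument. -/
theorem Syl.frattini (h : Syl p S L) {g : G} (hg : g ∈ normalizer (L : Set G)) :
    ∃ k ∈ L, k * g ∈ normalizer (S : Set G) :=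
  Cfsg.Agent.Lib.Helper1.sylow_frattini_rel h.le h.pg h.ndvd hg

end Syl

/-! ### minimal simple groups of odd order -/

section MinSimple

variable [Finite G]

theorem solv (hG : IsMinSimpleOddOrder G) {H : Subgroup G} (hH : H ≠ ⊤) : Group.IsSolvable H :=
  hG.2.2.2 H hH

theorem odd_card (hG : IsMinSimpleOddOrder G) (H : Subgroup G) : Odd (Nat.card H) :=
  Odd.of_dvd_nat hG.1 (Subgroup.card_subgroup_dvd_card H)

theorem exists_max {X : Subgroup G} (hX : X ≠ ⊤) : ∃ M : Subgroup G, IsCoatom M ∧ X ≤ M :=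
  (eq_top_or_exists_le_coatom X).resolve_left hX

theorem ne_two_of_dvd (hG : IsMinSimpleOddOrder G) {p : ℕ} (hp : p ∣ Nat.card G) : p ≠ 2 := by
  rintro rfl
  exact (Nat.not_even_iff_odd.mpr hG.1) (even_iff_two_dvd.mpr hp)

theorem ne_two_of_isPGroup (hG : IsMinSimpleOddOrder G) {p : ℕ} [Fact p.Prime] {S : Subgroup G}
    (hS : IsPGroup p S) (hne : S ≠ ⊥) : p ≠ 2 := by
  apply ne_two_of_dvd hG
  rcases hS.card_eq_or_dvd with h | h
  · exact absurd (Subgroup.card_eq_one.mp h) hne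
  · exact h.trans (Subgroup.card_subgroup_dvd_card S)

theorem isPGroup_ne_top (hG : IsMinSimpleOddOrder G) {p : ℕ} [Fact p.Prime] {S : Subgroup G}
    (hS : IsPGroup p S) : S ≠ ⊤ := by
  rintro rfl
  have h1 : Group.IsNilpotent (⊤ : Subgroup G) := hS.isNilpotent
  have h2 : Group.IsSolvable (⊤ : Subgroup G) := inferInstance
  have h3 : Group.IsSolvable G :=
    Group.isSolvable_of_surjective (f := (⊤ : Subgroup G).subtype)
      (fun x => ⟨⟨x, mem_top x⟩, rfl⟩)
  haveI := hG.2.1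
  exact hG.2.2.1 ⟨⟨IsSimpleGroup.comm_iff_isSolvable.mpr h3⟩⟩

/-- The normalizer of a nontrivial proper subgroup is proper. -/
theorem normalizer_ne_top (hG : IsMinSimpleOddOrder G) {D : Subgroup G} (h1 : D ≠ ⊥) (h2 : D ≠ ⊤) :
    normalizer (D : Set G) ≠ ⊤ :=
  haveI := hG.2.1
  Cfsg.Agent.Lib.Helper23.normalizer_ne_top_of_simple h1 h2

theorem normalizer_eq (hG : IsMinSimpleOddOrder G) {M : Subgroup G} (hM : IsCoatom M)
    {A : Subgroup G} (hA : A ≠ ⊥) (hA' : A ≠ ⊤) (hMA : M ≤ normalizer (A : Set G)) :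
    normalizer (A : Set G) = M := by
  rcases hM.le_iff.mp hMA with h | h
  · exact absurd h (normalizer_ne_top hG hA hA')
  · exact h

theorem normalizer_coatom (hG : IsMinSimpleOddOrder G) {M : Subgroup G} (hM : IsCoatom M) :
    normalizer (M : Set G) = M := by
  by_cases hb : M = ⊥
  · exfalso
    -- then `G` has no proper nontrivial subgroup, so it is cyclic
    subst hb
    apply hG.2.2.1
    have h1 : ∀ x : G, x ≠ 1 → zpowers x = ⊤ := by
      intro x hx
      by_contra hne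
      have := hM.2 (zpowers x) (bot_lt_iff_ne_bot.mpr (by rwa [Ne, zpowers_eq_bot]))
      exact hne this
    refine ⟨⟨fun x y => ?_⟩⟩
    by_cases hx : x = 1
    · rw [hx, one_mul, mul_one]
    · have hy : y ∈ zpowers x := h1 x hx ▸ mem_top y
      obtain ⟨n, rfl⟩ := mem_zpowers_iff.mp hy
      exact (Commute.zpow_right (Commute.refl x) n)
  · exact normalizer_eq hG hM hb hM.1 le_normalizer

theorem centralizer_ne_top (hG : IsMinSimpleOddOrder G) {b : G} (hb : b ≠ 1) :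
    centralizer ({b} : Set G) ≠ ⊤ :=
  haveI := hG.2.1
  Cfsg.Agent.Lib.Helper23.centralizer_singleton_ne_top_of_simple hG.2.2.1 hb

end MinSimple

/-! ### uniqueness subgroups -/

section Uniq

theorem uniq_iff {X : Subgroup G} : InUniqueMaximal X ↔
    ∃ M : Subgroup G, IsCoatom M ∧ X ≤ M ∧ ∀ L : Subgroup G, IsCoatom L → X ≤ L → L = M := by
  unfold InUniqueMaximal
  constructor
  · rintro ⟨M, ⟨h1, h2⟩, h3⟩
    exact ⟨M, h1, h2, fun L hL hXL => h3 L ⟨hL, hXL⟩⟩
  · rintro ⟨M, h1, h2, h3⟩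
    exact ⟨M, ⟨h1, h2⟩, fun L hL => h3 L hL.1 hL.2⟩

theorem uniq_mono [Finite G] {X Y : Subgroup G} (hX : InUniqueMaximal X) (hXY : X ≤ Y)
    (hY : Y ≠ ⊤) : InUniqueMaximal Y := by
  obtain ⟨M, h1, h2, h3⟩ := uniq_iff.mp hX
  obtain ⟨L, hL, hYL⟩ := exists_max hY
  have : L = M := h3 L hL (hXY.trans hYL)
  subst this
  exact uniq_iff.mpr ⟨L, hL, hYL, fun L' hL' h => h3 L' hL' (hXY.trans h)⟩

/-- a proper overgroup of a uniqueness subgroup lies in the unique maximal subgroup -/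
theorem le_of_uniq [Finite G] {X Y M : Subgroup G}
    (h3 : ∀ L : Subgroup G, IsCoatom L → X ≤ L → L = M) (hXY : X ≤ Y) (hY : Y ≠ ⊤) : Y ≤ M := by
  obtain ⟨L, hL, hYL⟩ := exists_max hY
  rw [← h3 L hL (hXY.trans hYL)]
  exact hYL

theorem isCoatom_map_conj {M : Subgroup G} (hM : IsCoatom M) (g : G) :
    IsCoatom (M.map (MulAut.conj g).toMonoidHom) :=
  (OrderIso.isCoatom_iff ((MulAut.conj g).mapSubgroup) _).2 hM

end Uniq

/-! ### `Z(J(S))` in ambient form -/

section ZJ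

open Cfsg.Agent.Lib.Helper34 Cfsg.Agent.Lib.Helper23

variable {p : ℕ} [hp : Fact p.Prime]

theorem zj_le (S : Subgroup G) : centerThompsonOf p S ≤ S := by
  rw [← Cfsg.Agent.Lib.Helper1.ZJE.inducedFunctor_zjE]
  exact inducedFunctor_le _

theorem zj_ne_bot [Finite G] {S : Subgroup G} (hS : IsPGroup p S) (hne : S ≠ ⊥) :
    centerThompsonOf p S ≠ ⊥ := by
  rw [← Cfsg.Agent.Lib.Helper1.ZJE.inducedFunctor_zjE]
  exact inducedFunctor_ne_bot Cfsg.Agent.Lib.Helper1.ZJE.isCharPFunctor_zjE S hS hne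

theorem normalizer_le_normalizer_zj [Finite G] {S : Subgroup G} (hS : IsPGroup p S) :
    normalizer (S : Set G) ≤ normalizer (centerThompsonOf p S : Set G) := by
  rw [← Cfsg.Agent.Lib.Helper1.ZJE.inducedFunctor_zjE]
  exact normalizer_le_normalizer_inducedFunctor Cfsg.Agent.Lib.Helper1.ZJE.isCharPFunctor_zjE S hS

theorem le_normalizer_map_subtype {H : Subgroup G} (N : Subgroup H) (hN : N.Normal) :
    H ≤ normalizer ((N.map H.subtype : Subgroup G) : Set G) := by
  rw [le_normalizer_iff]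
  rintro h hh _ ⟨y, hy, rfl⟩
  exact ⟨⟨h, hh⟩ * y * ⟨h, hh⟩⁻¹, hN.conj_mem y hy _, rfl⟩

theorem zj_sup_core_normal [Finite G] (hG : IsMinSimpleOddOrder G) {H S : Subgroup G}
    (hH : H ≠ ⊤) (hS : Syl p S H) :
    H ≤ normalizer ((centerThompsonOf p S ⊔ coreOf p H : Subgroup G) : Set G) := by
  obtain ⟨S', hS'⟩ := Cfsg.Agent.Lib.Helper1.exists_sylow_map_subtype_eq hS.le hS.pg hS.ndvd
  haveI : Group.IsSolvable H := solv hG hH
  have h1 := Cfsg.Agent.S1458.result (G := ↥H) (odd_card hG H) p S'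
  have h2 := le_normalizer_map_subtype _ h1
  rw [Subgroup.map_sup] at h2
  have h3 : (centerThompsonOf p (S' : Subgroup H)).map H.subtype = centerThompsonOf p S := by
    rw [← Cfsg.Agent.Lib.Helper1.ZJE.inducedFunctor_zjE,
      ← Cfsg.Agent.Lib.Helper1.ZJE.inducedFunctor_zjE,
      ← inducedFunctor_map_of_injective Cfsg.Agent.Lib.Helper1.ZJE.isCharPFunctor_zjE H.subtype
        H.subtype_injective (S' : Subgroup H) S'.isPGroup', hS']
  rw [h3] at h2
  exact h2

theorem le_normalizer_coreOf (p : ℕ) (H : Subgroup G) : H ≤ normalizer (coreOf p H : Set G) :=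
  le_normalizer.trans (normalizer_le_normalizer_coreOf p H)

/-- Glauberman's `ZJ`-factorization `H = O_{p'}(H) N_H(Z(J(S)))`. -/
theorem zj_factor [Finite G] (hG : IsMinSimpleOddOrder G) {H S : Subgroup G}
    (hH : H ≠ ⊤) (hS : Syl p S H) {h : G} (hh : h ∈ H) :
    ∃ k ∈ coreOf p H, ∃ n ∈ H ⊓ normalizer (centerThompsonOf p S : Set G), h = k * n := by
  set Z := centerThompsonOf p S with hZ
  set K := coreOf p H with hK
  have hZS : Z ≤ S := zj_le S
  have hZH : Z ≤ H := hZS.trans hS.le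
  have hZK : Z ≤ normalizer (K : Set G) := hZH.trans (le_normalizer_coreOf p H)
  have hsyl : Syl p Z (K ⊔ Z) := by
    refine ⟨le_sup_right, hS.pg.to_le hZS, ?_⟩
    intro hd
    have h1 : Nat.card (K ⊔ Z : Subgroup G) ∣ Nat.card K * Nat.card Z := card_sup_dvd hZK
    have h2 : Z.relIndex (K ⊔ Z) * Nat.card Z = Nat.card (K ⊔ Z : Subgroup G) :=
      relIndex_mul_natCard le_sup_right
    rw [← h2] at h1
    have h3 : Z.relIndex (K ⊔ Z) ∣ Nat.card K :=
      Nat.dvd_of_mul_dvd_mul_right Nat.card_pos h1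
    have h4 : (Nat.card K).Coprime p := card_coreOf_coprime p H
    exact hp.out.one_lt.ne' (Nat.eq_one_of_dvd_coprimes h4 (hd.trans h3) dvd_rfl)
  have hn : h ∈ normalizer ((K ⊔ Z : Subgroup G) : Set G) := by
    have := zj_sup_core_normal hG hH hS hh
    rwa [sup_comm] at this
  obtain ⟨k, hk, hkh⟩ := hsyl.frattini hn
  have hk' : k⁻¹ ∈ K ⊔ Z := inv_mem hk
  obtain ⟨x, hx, z, hz, e⟩ := (mem_sup_of_le_normalizer hZK).mp hk'
  have hkH : k ∈ H := (sup_le (coreOf_le p H) hZH) hk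
  refine ⟨x, hx, z * (k * h), mem_inf.mpr ⟨mul_mem (hZH hz) (mul_mem hkH hh), ?_⟩, ?_⟩
  · exact mul_mem (le_normalizer hz) hkh
  · calc h = k⁻¹ * (k * h) := by group
      _ = x * z * (k * h) := by rw [e]
      _ = x * (z * (k * h)) := by group

theorem le_of_zj [Finite G] (hG : IsMinSimpleOddOrder G) {H S M : Subgroup G}
    (hH : H ≠ ⊤) (hS : Syl p S H) (h1 : coreOf p H ≤ M)
    (h2 : H ⊓ normalizer (centerThompsonOf p S : Set G) ≤ M) : H ≤ M := by
  intro h hh
  obtain ⟨k, hk, n, hn, rfl⟩ := zj_factor hG hH hS hh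
  exact mul_mem (h1 hk) (h2 hn)

theorem le_normalizer_zj [Finite G] (hG : IsMinSimpleOddOrder G) {H S : Subgroup G}
    (hH : H ≠ ⊤) (hS : Syl p S H) (h1 : coreOf p H = ⊥) :
    H ≤ normalizer (centerThompsonOf p S : Set G) :=
  le_of_zj hG hH hS (h1 ▸ bot_le) inf_le_right

/-- An `S`-invariant `p'`-subgroup of `H` lies in `O_{p'}(H)`, `S` a Sylow `p`-subgroup of `H`. -/
theorem invariant_le_coreOf [Finite G] (hG : IsMinSimpleOddOrder G) (hp2 : p ≠ 2)
    {H S Y : Subgroup G} (hH : H ≠ ⊤) (hS : Syl p S H) (hYH : Y ≤ H)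
    (hY : (Nat.card Y).Coprime p) (hSY : S ≤ normalizer (Y : Set G)) : Y ≤ coreOf p H := by
  haveI : Group.IsSolvable H := solv hG hH
  have key := Cfsg.Agent.Lib.Helper9.le_pPrimeCore_of_invariant (X := ↥H)
    (isPConstrained_of_isSolvable p H) (fun h => absurd h hp2) (S.subgroupOf H) (Y.subgroupOf H)
    hS.pg.comap_subtype ?_ ?_ (le_normalizer_subgroupOf hSY)
  · have h4 := map_mono (f := H.subtype) key
    rwa [subgroupOf_map_subtype, inf_of_le_left hYH] at h4
  · intro x hx hxp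
    rw [mem_subgroupOf]
    have hx1 : IsPGroup p (zpowers (x : G)) := by
      have h1 := hxp.map H.subtype
      rwa [MonoidHom.map_zpowers] at h1
    have hx2 : zpowers (x : G) ≤ normalizer (S : Set G) := by
      rw [zpowers_le]
      apply centralizer_le_normalizer
      rw [mem_centralizer_iff]
      intro e he
      have := (mem_centralizer_iff.mp hx) ⟨e, hS.le he⟩ (by simpa [mem_subgroupOf] using he)
      exact congrArg Subtype.val this
    have h3 : IsPGroup p (S ⊔ zpowers (x : G) : Subgroup G) := isPGroup_sup hx2 hS.pg hx1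
    have h4 := hS.eq_of_le h3 le_sup_left (sup_le hS.le (zpowers_le.mpr x.2))
    rw [← h4]
    exact mem_sup_right (mem_zpowers _)
  · rw [Nat.card_congr (subgroupOfEquivOfLe hYH).toEquiv]
    exact hY

end ZJ

end Cfsg.Agent.Lib.Helper22.BG
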