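import Cfsg.Agent.Lib.Helper22.BG.Uniq

/-!
# Bender–Glauberman, Theorem 8.1 (a)
-/

set_option autoImplicit false
set_option linter.unusedSectionVars false
set_option linter.style.haveILetI false

namespace Cfsg.Agent.Lib.Helper22.BG

open Subgroup Cfsg
open Cfsg.Agent.Lib.Helper23 Cfsg.Agent.Lib.Helper34 Cfsg.Agent.S1481 Cfsg.Agent.S1482
open scoped Pointwise

variable {G : Type*} [Group G] [Finite G]

theorem InvQ.inf {K₀ R Q : Subgroup G} {q : ℕ} (hR : K₀ ≤ normalizer (R : Set G))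
    (hQ : InvQ K₀ q Q) : InvQ K₀ q (R ⊓ Q) :=
  ⟨hQ.1.to_le inf_le_right, Cfsg.Agent.Lib.Helper22.le_normalizer_inf hR hQ.2⟩

/-- Uniqueness of the maximal `K₀`-invariant `q`-subgroup from local uniqueness. -/
theorem maxInvQ_unique_of_join (hG : IsMinSimpleOddOrder G) {K₀ : Subgroup G} {q : ℕ}
    [hq : Fact q.Prime]
    (join : ∀ R : Subgroup G, R ≠ ⊤ → K₀ ≤ normalizer (R : Set G) → ∀ U₁ U₂, InvQ K₀ q U₁ →
      InvQ K₀ q U₂ → U₁ ≤ R → U₂ ≤ R → ∃ U, InvQ K₀ q U ∧ U₁ ≤ U ∧ U₂ ≤ U)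
    (conn : ∀ Q₁ Q₂, InvQ K₀ q Q₁ → InvQ K₀ q Q₂ → Q₁ ≠ ⊥ → Q₂ ≠ ⊥ →
      ∃ R : Subgroup G, R ≠ ⊤ ∧ K₀ ≤ normalizer (R : Set G) ∧ R ⊓ Q₁ ≠ ⊥ ∧ R ⊓ Q₂ ≠ ⊥) :
    ∀ Q₁ Q₂, MaxInvQ K₀ q Q₁ → MaxInvQ K₀ q Q₂ → Q₁ = Q₂ := by
  have main : ∀ (n : ℕ) (Q₁ Q₂ : Subgroup G), MaxInvQ K₀ q Q₁ → MaxInvQ K₀ q Q₂ →
      Nat.card G - Nat.card (Q₁ ⊓ Q₂ : Subgroup G) = n → Q₁ = Q₂ := by
    intro n
    induction n using Nat.strong_induction_on with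
    | _ n ih =>
      intro Q₁ Q₂ hQ₁ hQ₂ hn
      set D := Q₁ ⊓ Q₂ with hD
      have IH : ∀ T₁ T₂ : Subgroup G, MaxInvQ K₀ q T₁ → MaxInvQ K₀ q T₂ →
          ∀ R : Subgroup G, D < R → R ≤ T₁ → R ≤ T₂ → T₁ = T₂ := by
        intro T₁ T₂ hT₁ hT₂ R hR h1 h2
        refine ih _ ?_ T₁ T₂ hT₁ hT₂ rfl
        have h3 : Nat.card D < Nat.card (T₁ ⊓ T₂ : Subgroup G) :=
          card_lt_card_of_lt (lt_of_lt_of_le hR (le_inf h1 h2))
        have h4 : Nat.card (T₁ ⊓ T₂ : Subgroup G) ≤ Nat.card G := Subgroup.card_le_card_group _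
        omega
      by_cases hD₁ : D = Q₁
      · exact (hQ₁.2 Q₂ hQ₂.1 (inf_eq_left.mp hD₁)).symm
      by_cases hD₂ : D = Q₂
      · exact hQ₂.2 Q₁ hQ₁.1 (inf_eq_right.mp hD₂)
      have hKD : K₀ ≤ normalizer (D : Set G) :=
        Cfsg.Agent.Lib.Helper22.le_normalizer_inf hQ₁.1.2 hQ₂.1.2
      obtain ⟨R, hR, hKR, hDR, hR₁, hR₂⟩ : ∃ R : Subgroup G, R ≠ ⊤ ∧ K₀ ≤ normalizer (R : Set G) ∧
          D ≤ R ∧ ¬ (R ⊓ Q₁ ≤ D) ∧ ¬ (R ⊓ Q₂ ≤ D) := by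
        by_cases hDb : D = ⊥
        · have hb₁ : Q₁ ≠ ⊥ := fun h => hD₁ (by rw [hDb, h])
          have hb₂ : Q₂ ≠ ⊥ := fun h => hD₂ (by rw [hDb, h])
          obtain ⟨R, h1, h2, h3, h4⟩ := conn Q₁ Q₂ hQ₁.1 hQ₂.1 hb₁ hb₂
          refine ⟨R, h1, h2, hDb ▸ bot_le, ?_, ?_⟩
          · rw [hDb, le_bot_iff]; exact h3
          · rw [hDb, le_bot_iff]; exact h4
        · have hDp : IsPGroup q D := hQ₁.1.1.to_le inf_le_left
          refine ⟨normalizer (D : Set G), normalizer_ne_top hG hDb (isPGroup_ne_top hG hDp),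
            hKD.trans le_normalizer, le_normalizer, ?_, ?_⟩
          · obtain ⟨x, hx1, hx2, hx3⟩ := Cfsg.Agent.Lib.Helper22.exists_mem_normalizer_not_mem
              hQ₁.1.1 (lt_of_le_of_ne inf_le_left hD₁)
            exact fun h => hx3 (h (mem_inf.mpr ⟨hx2, hx1⟩))
          · obtain ⟨x, hx1, hx2, hx3⟩ := Cfsg.Agent.Lib.Helper22.exists_mem_normalizer_not_mem
              hQ₂.1.1 (lt_of_le_of_ne inf_le_right hD₂)
            exact fun h => hx3 (h (mem_inf.mpr ⟨hx2, hx1⟩))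
      obtain ⟨U, hU, hU₁, hU₂⟩ := join R hR hKR (R ⊓ Q₁) (R ⊓ Q₂) (InvQ.inf hKR hQ₁.1)
        (InvQ.inf hKR hQ₂.1) inf_le_left inf_le_left
      obtain ⟨T, hT, hUT⟩ := exists_maxInvQ_ge hU
      have e1 : T = Q₁ := IH T Q₁ hT hQ₁ (R ⊓ Q₁)
        (lt_of_le_of_ne (le_inf hDR inf_le_left) (fun h => hR₁ h.ge)) (hU₁.trans hUT) inf_le_right
      have e2 : T = Q₂ := IH T Q₂ hT hQ₂ (R ⊓ Q₂)
        (lt_of_le_of_ne (le_inf hDR inf_le_right) (fun h => hR₂ h.ge)) (hU₂.trans hUT) inf_le_right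
      rw [← e1, e2]
  intro Q₁ Q₂ h₁ h₂
  exact main _ Q₁ Q₂ h₁ h₂ rfl

/-- rank three connects: a common nontrivial element with nontrivial fixed points. -/
theorem exists_common_centralizer {r : ℕ} [hr : Fact r.Prime] {B Q₁ Q₂ : Subgroup G}
    (hBc : ∀ x ∈ B, ∀ y ∈ B, x * y = y * x) (hBp : ∀ x ∈ B, x ^ r = 1)
    (hcard : r ^ 2 < Nat.card B)
    (h₁ : ¬ r ∣ Nat.card Q₁) (h₂ : ¬ r ∣ Nat.card Q₂) (hB₁ : B ≤ normalizer (Q₁ : Set G))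
    (hB₂ : B ≤ normalizer (Q₂ : Set G)) (hb₁ : Q₁ ≠ ⊥) (hb₂ : Q₂ ≠ ⊥) :
    ∃ b ∈ B, b ≠ 1 ∧ centralizer ({b} : Set G) ⊓ Q₁ ≠ ⊥ ∧ centralizer ({b} : Set G) ⊓ Q₂ ≠ ⊥ := by
  obtain ⟨B₁, hB₁', hi₁, hc₁⟩ := exists_hyperplane_centralizer_ne_bot B Q₁ hBc hBp h₁ hB₁ hb₁
  obtain ⟨B₂, hB₂', hi₂, hc₂⟩ := exists_hyperplane_centralizer_ne_bot B Q₂ hBc hBp h₂ hB₂ hb₂
  have hlt : 1 < Nat.card (B₁ ⊓ B₂ : Subgroup G) := by
    have e1 : (B₁ ⊓ B₂).relIndex B * Nat.card (B₁ ⊓ B₂ : Subgroup G) = Nat.card B :=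
      Cfsg.Agent.Lib.Helper22.relIndex_mul_natCard (inf_le_left.trans hB₁')
    have e2 : (B₁ ⊓ B₂).relIndex B ≤ r * r :=
      relIndex_inf_le.trans (Nat.mul_le_mul hi₁ hi₂)
    by_contra hcon
    have e3 : Nat.card (B₁ ⊓ B₂ : Subgroup G) = 1 := by
      have : 0 < Nat.card (B₁ ⊓ B₂ : Subgroup G) := Nat.card_pos
      omega
    rw [e3, mul_one] at e1
    rw [← e1, pow_two] at hcard
    exact absurd hcard (not_lt.mpr e2)
  obtain ⟨b, hb, hb1⟩ := exists_ne_one_of_one_lt_card hlt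
  rw [mem_inf] at hb
  have hsub : ∀ {B' Q : Subgroup G}, b ∈ B' → Q ⊓ centralizer (B' : Set G) ≠ ⊥ →
      centralizer ({b} : Set G) ⊓ Q ≠ ⊥ := by
    intro B' Q hbB' hne h
    apply hne
    rw [eq_bot_iff, ← h]
    refine le_inf (inf_le_right.trans (centralizer_le ?_)) inf_le_left
    rintro _ rfl
    exact hbB'
  exact ⟨b, hB₁' hb.1, hb1, hsub hb.1 hc₁, hsub hb.2 hc₂⟩

theorem pCoreOf_ne_bot_of_dvd {q : ℕ} (hq : q.Prime) {M : Subgroup G}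
    (hd : q ∣ Nat.card (fittingOf M)) : pCoreOf q M ≠ ⊥ := by
  intro h
  have := not_dvd_card_fittingOf hq M h
  exact hq.one_lt.ne' (Nat.eq_one_of_dvd_coprimes this hd dvd_rfl)

theorem isLocal_of_coatom (hG : IsMinSimpleOddOrder G) {M : Subgroup G} (hM : IsCoatom M)
    {p : ℕ} (hp : p.Prime) (hd : p ∣ Nat.card (fittingOf M)) :
    IsLocalSubgroup M ∧ ∀ L : Subgroup G, IsLocalSubgroup L → M ≤ L → L = M := by
  haveI : Fact p.Prime := ⟨hp⟩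
  constructor
  · refine ⟨p, pCoreOf p M, hp, Cfsg.Agent.Lib.Helper47.pCoreOf_isPGroup M,
      pCoreOf_ne_bot_of_dvd hp hd, ?_⟩
    exact (normalizer_eq hG hM (pCoreOf_ne_bot_of_dvd hp hd)
      (isPGroup_ne_top hG (Cfsg.Agent.Lib.Helper47.pCoreOf_isPGroup M))
      (Cfsg.Agent.Lib.Helper47.le_normalizer_pCoreOf M)).symm
  · rintro L ⟨r, T, hr, hT, hTne, rfl⟩ hle
    haveI : Fact r.Prime := ⟨hr⟩
    exact normalizer_eq hG hM hTne (isPGroup_ne_top hG hT) hle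

theorem exists_le_maxInv {R K₀ U : Subgroup G} {π : Set ℕ} (hU : U ∈ invSubgroups R K₀ π) :
    ∃ Q ∈ maxInvSubgroups R K₀ π, U ≤ Q := by
  obtain ⟨Q, hUQ, hQmax⟩ := (Set.toFinite (invSubgroups R K₀ π)).exists_le_maximal hU
  refine ⟨Q, ⟨hQmax.prop, ?_⟩, hUQ⟩
  intro T hT hQT
  exact le_antisymm (hQmax.le_of_ge hT hQT) hQT

/-- **BG Theorem 8.1 (a).** -/
theorem fitting_uniq_a (hG : IsMinSimpleOddOrder G) {M : Subgroup G} (hM : IsCoatom M) {p : ℕ}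
    [hp : Fact p.Prime] {A₀ : Subgroup G} (hA₀ : A₀ ≤ fittingOf M)
    (hA₀e : IsElementaryAbelian p A₀) (hA₀3 : p ^ 3 ≤ Nat.card A₀)
    (hnp : ¬ IsPGroup p (fittingOf M)) :
    ∀ L : Subgroup G, IsCoatom L → fittingOf M ⊓ centralizer (A₀ : Set G) ≤ L → L = M := by
  set F := fittingOf M with hF
  set K₀ := F ⊓ centralizer (A₀ : Set G) with hK₀
  have hMs : Group.IsSolvable M := solv hG hM.1
  have hFnil : Group.IsNilpotent F := fittingOf_isNilpotent M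
  have hAc : ∀ x ∈ A₀, ∀ y ∈ A₀, x * y = y * x := by
    intro x hx y hy
    exact congrArg Subtype.val (hA₀e.1.is_comm.comm ⟨x, hx⟩ ⟨y, hy⟩)
  have hAK : A₀ ≤ K₀ := by
    refine le_inf hA₀ ?_
    intro x hx
    rw [mem_centralizer_iff]
    intro y hy
    exact hAc y hy x hx
  have hA1 : 1 < Nat.card A₀ :=
    lt_of_lt_of_le (Nat.one_lt_pow (by norm_num) hp.out.one_lt) hA₀3
  have hpF : p ∣ Nat.card F := by
    obtain ⟨b, hb, hb1⟩ := exists_ne_one_of_one_lt_card hA1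
    have h2 : orderOf b = p := orderOf_eq_prime (hA₀e.2 b hb) hb1
    have h3 : orderOf (⟨b, hA₀ hb⟩ : F) ∣ Nat.card F := orderOf_dvd_natCard _
    rw [Subgroup.orderOf_mk, h2] at h3
    exact h3
  have hF2 : 2 ≤ (Nat.card F).primeFactors.card := by
    by_contra hcon
    apply hnp
    have h1 : (Nat.card F).primeFactors.card ≤ 1 := by omega
    refine IsPGroup.of_card (Nat.eq_prime_pow_of_unique_prime_dvd Nat.card_pos.ne' ?_)
    intro d hd hdd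
    have m1 : d ∈ (Nat.card F).primeFactors := Nat.mem_primeFactors.mpr ⟨hd, hdd, Nat.card_pos.ne'⟩
    have m2 : p ∈ (Nat.card F).primeFactors :=
      Nat.mem_primeFactors.mpr ⟨hp.out, hpF, Nat.card_pos.ne'⟩
    exact Finset.card_le_one.mp h1 d m1 p m2
  obtain ⟨hloc, hlocmax⟩ := isLocal_of_coatom hG hM hp.out hpF
  have hCK : F ⊓ centralizer (K₀ : Set G) ≤ K₀ :=
    le_inf inf_le_left (inf_le_right.trans (centralizer_le hAK))
  have hZK : F ⊓ centralizer (F : Set G) ≤ K₀ :=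
    le_inf inf_le_left (inf_le_right.trans (centralizer_le hA₀))
  have hXK : M ⊓ centralizer (F : Set G) ≤ K₀ :=
    (le_inf (centralizer_fittingOf_le M hMs) inf_le_right).trans hZK
  have hKs : Group.IsSolvable K₀ := by
    have : Group.IsSolvable F := inferInstance
    exact Group.isSolvable_of_isSolvable_injective
      (Subgroup.inclusion_injective (inf_le_left : K₀ ≤ F))
  have hkill : ∀ q : ℕ, q.Prime → ¬ q ∣ Nat.card F → ∀ Q, InvQ K₀ q Q → Q = ⊥ := by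
    intro q hq hqF
    haveI : Fact q.Prime := ⟨hq⟩
    apply invQ_eq_bot hG hM inf_le_left hqF
    have hpq : ∀ Q : Subgroup G, IsPGroup q Q → ¬ p ∣ Nat.card Q := by
      intro Q hQ hd
      have h1 := (isPGroup_iff_primes.mpr hQ) p hp.out hd
      rw [Set.mem_singleton_iff] at h1
      exact hqF (h1 ▸ hpF)
    apply maxInvQ_unique_of_join hG
    · intro R hR hKR U₁ U₂ hU₁ hU₂ h₁ h₂
      obtain ⟨Q, ⟨hQ, hQall⟩, huniq⟩ := Cfsg.Agent.S1481.result M hloc hlocmax hF2 K₀ inf_le_left hCK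
        R (solv hG hR) hKR (hXK.trans hKR) q hqF
      have hle : ∀ U, InvQ K₀ q U → U ≤ R → U ≤ Q := by
        intro U hU hUR
        obtain ⟨T, hT, hUT⟩ := exists_le_maxInv (R := R) (K₀ := K₀) (π := {q}) (U := U)
          ⟨hUR, isPGroup_iff_primes.mpr hU.1, hU.2⟩
        rw [← huniq T ⟨hT, hQall⟩]
        exact hUT
      exact ⟨Q, ⟨isPGroup_iff_primes.mp hQ.1.2.1, hQ.1.2.2⟩, hle U₁ hU₁ h₁, hle U₂ hU₂ h₂⟩
    · intro Q₁ Q₂ hQ₁ hQ₂ hb₁ hb₂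
      obtain ⟨b, hb, hb1, hc₁, hc₂⟩ := exists_common_centralizer (r := p) (B := A₀) hAc hA₀e.2
        (lt_of_lt_of_le (Nat.pow_lt_pow_right hp.out.one_lt (by norm_num)) hA₀3)
        (hpq Q₁ hQ₁.1) (hpq Q₂ hQ₂.1) (hAK.trans hQ₁.2) (hAK.trans hQ₂.2) hb₁ hb₂
      refine ⟨centralizer {b}, centralizer_ne_top hG hb1, ?_, hc₁, hc₂⟩
      refine le_trans ?_ le_normalizer
      refine inf_le_right.trans (centralizer_le ?_)
      rintro _ rfl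
      exact hb
  have hinv : ∀ Y ∈ invSubgroups ⊤ K₀ (primesNotDvd (Nat.card F)), Y = ⊥ := by
    rintro Y ⟨-, hYπ, hKY⟩
    apply inv_eq_bot hKs hKY
    · exact Cfsg.Agent.Lib.Helper22.coprime_of_primes (n := Nat.card F)
        (fun r _ h => h.trans (Subgroup.card_dvd_of_le inf_le_left)) hYπ
    · intro q hq hqd
      exact hkill q hq (hYπ q hq hqd).2
  exact Cfsg.Agent.S1482.result hG M hM hF2 K₀ inf_le_left hZK hinv

end Cfsg.Agent.Lib.Helper22.BG
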